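import Groth.Agent.L16.LeviAffine.Unip
import Groth.Agent.L16.RadQuot.Main
import Groth.Agent.L08.Borel.RedComp
import Groth.Agent.L14.Luna.RadicalImage
import Groth.Agent.L26.Theta.QuotAV
import Groth.Agent.S11213
import Groth.Agent.S0082

/-!
# Affine homogeneous spaces from inclusions of unipotent radicals
-/

set_option autoImplicit false
set_option backward.isDefEq.respectTransparency.types false
set_option linter.style.haveILetI false
set_option linter.unusedSectionVars false
set_option maxHeartbeats 2000000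

universe u

open CategoryTheory CategoryTheory.Limits MonoidalCategory CartesianMonoidalCategory MonObj GrpObj AlgebraicGeometry
open Groth.L14.Luna
open Groth.L28.Ext (Cov)
open Groth.L08.WeilInsep (cov_of_fppf cov_comp cov_of_comp)

noncomputable section

namespace Groth.L16.LeviAffine

variable {k : Type u} [Field k]

local notation "SK" => Spec (CommRingCat.of k)
local notation "U1" => 𝟙_ (Over (Spec (CommRingCat.of k)))

/-- Affineness of a space fibred over an affine homogeneous space with affine fibre. -/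
theorem isAffine_of_fibre {L L' X X' F : Over SK} [GrpObj L] [GrpObj L'] (q : L ⟶ L') [IsMonHom q]
    (a : AlgGrp.Action L X) (a' : AlgGrp.Action L' X') (f : X ⟶ X')
    (heq : a.act ≫ f = (q ⊗ₘ f) ≫ a'.act) (o' : U1 ⟶ X') [Surjective (q ≫ a'.orbitMap o').left]
    [Flat (q ≫ a'.orbitMap o').left] [QuasiCompact (q ≫ a'.orbitMap o').left]
    (jF : F ⟶ X) (hF : IsPullback jF (toUnit F) f o') [IsAffine F.left] [IsAffine X'.left] : IsAffine X.left := by
  let ρ := q ≫ a'.orbitMap o'
  have hf : ∀ {T : Over SK} (l : T ⟶ L) (x : T ⟶ X), (lift l x ≫ a.act) ≫ f = lift (l ≫ q) (x ≫ f) ≫ a'.act := by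
    intro T l x
    rw [Category.assoc, heq, ← Category.assoc, lift_map]
  have hρ : ∀ {T : Over SK} (l : T ⟶ L), l ≫ ρ = lift (l ≫ q) (toUnit T ≫ o') ≫ a'.act := fun l => by
    rw [← Category.assoc, Groth.L08.Borel.comp_orbitMap]
  have hw : fst L F ≫ ρ = ((L ◁ jF) ≫ a.act) ≫ f := by
    rw [hρ, show (L ◁ jF) = lift (fst L F) (snd L F ≫ jF) by ext <;> simp, hf, Category.assoc, hF.w, ← Category.assoc,
      toUnit_unique (snd L F ≫ toUnit F) (toUnit _)]
  have hy : ∀ s : PullbackCone ρ f, ((lift s.fst⁻¹ s.snd ≫ a.act) ≫ f) = toUnit s.pt ≫ o' := fun s => by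
    rw [hf, ← s.condition, hρ, ← Groth.L25.Actions.mul_act, ← MonObj.mul_comp, inv_mul_cancel, MonObj.one_comp,
      Groth.L25.Actions.one_act]
  have hl : ∀ {T : Over SK} (z : T ⟶ L ⊗ F), z ≫ (L ◁ jF) ≫ a.act = lift (z ≫ fst L F) ((z ≫ snd L F) ≫ jF) ≫ a.act :=
    fun z => by rw [← Category.assoc]; congr 1; ext <;> simp
  have sq : IsPullback (fst L F) ((L ◁ jF) ≫ a.act) ρ f := by
    refine IsPullback.of_isLimit' ⟨hw⟩ (PullbackCone.IsLimit.mk hw
      (fun s => CartesianMonoidalCategory.lift s.fst (hF.lift _ _ (hy s))) (fun s => lift_fst _ _) (fun s => ?_)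
      (fun s m h1 h2 => CartesianMonoidalCategory.hom_ext _ _ (by rw [lift_fst]; exact h1) ?_))
    · rw [hl, lift_fst, lift_snd, IsPullback.lift_fst, ← Groth.L25.Actions.mul_act, mul_inv_cancel,
        Groth.L25.Actions.one_act]
    · rw [lift_snd]
      refine hF.hom_ext ?_ (toUnit_unique _ _)
      rw [IsPullback.lift_fst, ← h2, hl, h1, ← Groth.L25.Actions.mul_act, inv_mul_cancel, Groth.L25.Actions.one_act]
  haveI : IsAffineHom F.hom := isAffineHom_of_isAffine F.hom
  haveI : IsAffineHom (fst L F).left := MorphismProperty.pullback_fst (P := @IsAffineHom) L.hom F.hom ‹IsAffineHom F.hom›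
  haveI := Groth.Agent.S0082.result.{u}
  haveI : IsAffineHom f.left :=
    MorphismProperty.of_isPullback_of_descendsAlong (P := @IsAffineHom) (Q := @Surjective ⊓ @Flat ⊓ @QuasiCompact)
      (sq.map (Over.forget _)) ⟨⟨‹Surjective ρ.left›, ‹Flat ρ.left›⟩, ‹QuasiCompact ρ.left›⟩ ‹IsAffineHom (fst L F).left›
  exact isAffine_of_isAffineHom f.left

/-- The quotient by a closed normal subgroup, with all its properties. -/
theorem exists_quotient_data {G N : Over SK} [GrpObj G] [GrpObj N] [IsAffine G.left] [Smooth G.hom]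
    (n : N ⟶ G) [IsMonHom n] [IsClosedImmersion n.left] (hn : AlgGrp.IsNormalHom n) :
    ∃ (Q : Over SK) (_ : GrpObj Q) (q : G ⟶ Q), IsMonHom q ∧ IsAffine Q.left ∧ Smooth Q.hom ∧
      Surjective q.left ∧ Flat q.left ∧ LocallyOfFinitePresentation q.left ∧ AlgGrp.IsKernel n q := by
  haveI : LocallyOfFiniteType G.hom := inferInstance
  haveI : QuasiCompact G.hom := quasiCompact_of_compactSpace _
  haveI : Mono n := Over.mono_of_mono_left n
  haveI : LocallyOfFiniteType N.hom := by rw [← Over.w n]; infer_instance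
  haveI : QuasiCompact N.hom := by rw [← Over.w n]; infer_instance
  obtain ⟨Y, p, _, _, _, sqp⟩ := Groth.L08.GQuot.exists_quotient_field n
  obtain ⟨Q, q, _, _, _, sqq, hlft, -, -, hsm, -⟩ := Groth.L08.GQuot.exists_struct p sqp
  obtain ⟨gQ, hq, hker⟩ := Groth.L08.GQuot.exists_grp hn q sqq
  haveI := hlft inferInstance
  exact ⟨Q, gQ, q, hq, Groth.L08.NormalQuot.isAffine_of_surjective_hom q, hsm inferInstance, inferInstance,
    inferInstance, inferInstance, hker⟩

variable [IsAlgClosed k]

/-- The image of a group whose unipotent radical dies has reductive identity component. -/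
theorem isReductiveGrp_image {H H' UH : Over SK} [GrpObj H] [GrpObj H'] [GrpObj UH] [IsAffine H.left] [Smooth H.hom]
    [IsAffine H'.left] [Smooth H'.hom] (p : H ⟶ H') [IsMonHom p] [Flat p.left] [Surjective p.left]
    [LocallyOfFinitePresentation p.left] (uH : UH ⟶ H) (hUH : Par.IsUnipotentRadical uH) (hdie : uH ≫ p = 1) :
    VecGrp.IsReductiveGrp k H' := by
  haveI : QuasiCompact H.hom := quasiCompact_of_compactSpace _
  haveI : QuasiCompact H'.hom := quasiCompact_of_compactSpace _
  obtain ⟨K, gK, j, hj⟩ := Groth.L08.Chev.exists_idComp H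
  obtain ⟨K', gK', j', hj'⟩ := Groth.L08.Chev.exists_idComp H'
  haveI := hj.hom; haveI := hj.closedImm; haveI := hj.connectedSpace; haveI := hj.smooth; haveI := hj.openImm
  haveI := hj'.hom; haveI := hj'.closedImm; haveI := hj'.connectedSpace; haveI := hj'.smooth; haveI := hj'.openImm
  haveI : Mono j := Over.mono_of_mono_left j
  haveI : Mono j' := Over.mono_of_mono_left j'
  haveI : IsAffine K.left := hj.isAffine
  haveI : IsAffine K'.left := hj'.isAffine
  haveI : QuasiCompact K.hom := hj.quasiCompact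
  haveI : QuasiCompact K'.hom := hj'.quasiCompact
  obtain ⟨π, hπ⟩ := hj'.exists_lift_hom (j ≫ p)
  haveI : IsMonHom π := Groth.L08.Borel.isMonHom_of_comp_mono π j' _ hπ
  -- the image of the identity component is the identity component
  haveI : Surjective π.left := by
    obtain ⟨C, gC, p₀, c, -, -, hpc, -, hps, -, hcc⟩ := Groth.L08.AbelianGrp.exists_image (j ≫ p)
    haveI := hps; haveI := hcc
    have hr : Set.range c.left = Set.range (j ≫ p).left := by
      rw [← hpc, Over.comp_left, Scheme.Hom.comp_base, TopCat.coe_comp, Set.range_comp,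
        p₀.left.surjective.range_eq, Set.image_univ]
    have hclosed : IsClosed (Set.range (j ≫ p).left) := hr ▸ c.left.isClosedEmbedding.isClosed_range
    have hopen : IsOpen (Set.range (j ≫ p).left) := by
      rw [Over.comp_left, Scheme.Hom.comp_base, TopCat.coe_comp, Set.range_comp]
      exact p.left.isOpenMap _ j.left.isOpenEmbedding.isOpen_range
    have hone : Groth.L25.Component.one H' ∈ Set.range (j ≫ p).left :=
      ⟨Groth.L25.Component.one K, congr(($(IsMonHom.one_hom (f := j ≫ p))).left (IsLocalRing.closedPoint k))⟩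
    have hsub : connectedComponent (Groth.L25.Component.one H') ⊆ Set.range (j ≫ p).left :=
      IsClopen.connectedComponent_subset ⟨hclosed, hopen⟩ hone
    refine ⟨fun x => ?_⟩
    obtain ⟨y, hy⟩ := hsub (hj'.range ▸ Set.mem_range_self x)
    refine ⟨y, j'.left.isOpenEmbedding.injective ?_⟩
    rw [← hy, ← hπ]
    rfl
  obtain ⟨U₀, gU₀, u₀, hU₀⟩ := Groth.L25.RedField.exists_unipotentRadical K
  obtain ⟨hum, huc, hun, hus, hucon, huns⟩ := unipotentRadical_data hU₀
  haveI := hum; haveI := huc; haveI := hus; haveI := hucon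
  obtain ⟨U', gU', u', hU'⟩ := Groth.L25.RedField.exists_unipotentRadical K'
  obtain ⟨hum', huc', -, hus', -, -⟩ := unipotentRadical_data hU'
  haveI := hum'; haveI := huc'; haveI := hus'
  haveI : Mono u' := Over.mono_of_mono_left u'
  -- the radical of the identity component dies
  haveI : IsClosedImmersion (u₀ ≫ j).left := inferInstanceAs (IsClosedImmersion (u₀.left ≫ j.left))
  haveI : QuasiCompact U₀.hom := by rw [← Over.w u₀]; infer_instance
  have hnH : AlgGrp.IsNormalHom (u₀ ≫ j) := by
    refine Groth.L16.RadQuot.isNormalHom_of_points (u₀ ≫ j) fun g => ?_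
    haveI := Groth.L08.Borel.isMonHom_conjBy g j
    haveI := Groth.L08.Borel.isMonHom_conjBy g⁻¹ j
    obtain ⟨c, hc⟩ := hj.exists_lift_hom (AGF.conjBy g j)
    obtain ⟨c', hc'⟩ := hj.exists_lift_hom (AGF.conjBy g⁻¹ j)
    haveI : IsMonHom c := Groth.L08.Borel.isMonHom_of_comp_mono c j _ hc
    have h1 : c ≫ c' = 𝟙 K := by
      rw [← cancel_mono j, Category.assoc, hc', Groth.L08.Borel.comp_conjBy, hc, Groth.L08.Borel.conjBy_conjBy,
        inv_mul_cancel, Groth.L08.Borel.conjBy_one, Category.id_comp]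
    have h2 : c' ≫ c = 𝟙 K := by
      rw [← cancel_mono j, Category.assoc, hc, Groth.L08.Borel.comp_conjBy, hc', Groth.L08.Borel.conjBy_conjBy,
        mul_inv_cancel, Groth.L08.Borel.conjBy_one, Category.id_comp]
    haveI : IsIso c := ⟨c', h1, h2⟩
    haveI : IsIso c.left := inferInstanceAs (IsIso ((Over.forget _).map c))
    haveI : IsClosedImmersion (u₀ ≫ c).left := inferInstanceAs (IsClosedImmersion (u₀.left ≫ c.left))
    obtain ⟨f, hf⟩ := exists_factor_unipotentRadical hU₀ (u₀ ≫ c) (fun Y y z => by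
      obtain ⟨z', hz'⟩ := hun Y (y ≫ c') z
      refine ⟨z', ?_⟩
      have e := congrArg (fun t => t ≫ c) hz'
      simp only [MonObj.mul_comp, GrpObj.inv_comp, Category.assoc, h2, Category.comp_id] at e
      exact e) hucon huns
    exact ⟨f, by rw [reassoc_of% hf, hc, Groth.L08.Borel.comp_conjBy]⟩
  obtain ⟨e, he⟩ := exists_factor_unipotentRadical hUH (u₀ ≫ j) hnH hucon huns
  obtain ⟨f, hf, hfs⟩ := exists_surjective_radicals π hU₀ hU'
  haveI := hfs
  have hu1 : u₀ ≫ π = 1 := by
    rw [← cancel_mono j', Category.assoc, hπ, ← Category.assoc, ← he, Category.assoc, hdie, MonObj.comp_one,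
      MonObj.one_comp]
  haveI : IsSeparated U'.hom := Groth.L08.AbelianGrp.isSeparated U'
  haveI : IsReduced U'.left := Groth.Agent.AV.isReduced_of_smooth_field U'.hom
  have hf1 : f = 1 := by rw [← cancel_mono u', hf, hu1, MonObj.one_comp]
  have hU'1 : 𝟙 U' = 1 := Over.OverMorphism.ext (ext_of_isDominant_of_isSeparated U'.hom (by rw [Over.w, Over.w])
    f.left (congrArg CommaMorphism.left (show f ≫ 𝟙 U' = f ≫ 1 from by
      rw [Category.comp_id, MonObj.comp_one, hf1])))
  refine ⟨inferInstance, inferInstance, K', gK', j', hj'.hom, hj'.openImm, inferInstance, inferInstance, inferInstance,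
    fun N _ n _ hnc hNs hNc hnn hns => ?_⟩
  haveI := hnc; haveI := hNs; haveI := hNc
  haveI : IsAffine N.left := isAffine_of_isAffineHom n.left
  haveI : QuasiCompact N.hom := quasiCompact_of_compactSpace _
  obtain ⟨g, hg⟩ := exists_factor_unipotentRadical hU' n hnn hNc hns
  refine isTrivialGrp_of_id_eq_one ?_
  haveI : Mono n := Over.mono_of_mono_left n
  rw [← cancel_mono n, Category.id_comp, MonObj.one_comp, ← hg, ← Category.comp_id g, hU'1, MonObj.comp_one,
    MonObj.one_comp]

/-- The orbit of the base point under the kernel covers the fibre. -/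
theorem isAffine_homogeneous {L H UL UH X : Over SK} [GrpObj L] [GrpObj H] [GrpObj UL] [GrpObj UH] [IsAffine L.left]
    [Smooth L.hom] [Smooth H.hom] (i : H ⟶ L) [IsMonHom i] [IsClosedImmersion i.left]
    (uL : UL ⟶ L) (hUL : Par.IsUnipotentRadical uL) (uH : UH ⟶ H) (hUH : Par.IsUnipotentRadical uH)
    (f₀ : UH ⟶ UL) (hf₀ : f₀ ≫ uL = uH ≫ i) (thmA : VecGrp.ReductiveInvariantsFG k)
    (thmAbi : AGF.ReductiveQuotSurj k) (thmAbiv : AGF.ReductiveQuotSeparates k)
    (a : AlgGrp.Action L X) (o : U1 ⟶ X) (hX : AGF.IsQuotient i X a o) : IsAffine X.left := by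
  classical
  haveI : IsAffine H.left := isAffine_of_isAffineHom i.left
  haveI : QuasiCompact L.hom := quasiCompact_of_compactSpace _
  haveI : QuasiCompact H.hom := quasiCompact_of_compactSpace _
  haveI : LocallyOfFiniteType L.hom := inferInstance
  obtain ⟨hum, huc, hun, hus, hucon, huns⟩ := unipotentRadical_data hUL
  haveI := hum; haveI := huc; haveI := hus; haveI := hucon
  haveI : Mono i := Over.mono_of_mono_left i
  haveI : Mono uL := Over.mono_of_mono_left uL
  haveI : IsAffine UL.left := isAffine_of_isAffineHom uL.left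
  obtain ⟨L', gL', q, hq, hL'a, hL's, hqs, hqf, hqlfp, hker⟩ := exists_quotient_data uL hun
  haveI := hq; haveI := hL'a; haveI := hL's; haveI := hqs; haveI := hqf; haveI := hqlfp
  haveI : LocallyOfFiniteType L'.hom := inferInstance
  have huq : uL ≫ q = 1 := by rw [hker.w, Hom.one_def]
  obtain ⟨H', gH', p, n, hp, hnm, hpn, hpf, hps, hplfp, hnc⟩ := Groth.L08.AbelianGrp.exists_image (i ≫ q)
  haveI := hp; haveI := hnm; haveI := hpf; haveI := hps; haveI := hplfp; haveI := hnc
  haveI : Mono n := Over.mono_of_mono_left n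
  haveI : IsReduced H.left := Groth.Agent.AV.isReduced_of_smooth_field H.hom
  haveI : IsReduced H'.left := Groth.Agent.ThetaQuot.isReduced_of_flat_surjective p.left
  haveI : LocallyOfFiniteType H'.hom := by rw [← Over.w n]; infer_instance
  haveI : Smooth H'.hom := Groth.L08.Borel.smooth_of_reduced_group H'
  haveI : IsAffine H'.left := isAffine_of_isAffineHom n.left
  have hdie : uH ≫ p = 1 := by
    rw [← cancel_mono n, Category.assoc, hpn, ← Category.assoc, ← hf₀, Category.assoc, huq, MonObj.comp_one,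
      MonObj.one_comp]
  have hred := isReductiveGrp_image p uH hUH hdie
  obtain ⟨X', a', o', hX'⟩ := Groth.L08.Borel.exists_isQuotient n
  haveI : IsAffine X'.left := (Groth.Agent.S11213.result k L' H' n hred thmA thmAbi thmAbiv X' a' o' hX').2
  let π := a.orbitMap o
  let π' := a'.orbitMap o'
  haveI : Surjective π.left := hX.2.2.1
  haveI : Flat π.left := hX.2.1
  haveI : LocallyOfFinitePresentation π.left := Groth.L08.Borel.lfp_orbitMap hX
  haveI : Surjective π'.left := hX'.2.2.1
  haveI : Flat π'.left := hX'.2.1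
  have hone' : ∀ T : Over SK, (1 : T ⟶ L') ≫ π' = toUnit T ≫ o' := fun T => Groth.L08.Borel.one_orbitMap a' o'
  obtain ⟨f, hf⟩ := Groth.L08.Borel.exists_desc hX (q ≫ π') fun T x y ⟨z, hz⟩ => by
    rw [← Category.assoc, ← Category.assoc, Groth.L08.Borel.orbitMap_eq_iff hX']
    exact ⟨z ≫ p, by rw [Category.assoc, hpn, ← Category.assoc, hz, MonObj.mul_comp, GrpObj.inv_comp]⟩
  have heq : a.act ≫ f = (q ⊗ₘ f) ≫ a'.act := by
    refine Groth.L28.Ext.cancel (Groth.L28.Ext.cov_tensor (Groth.L28.Ext.cov_id L) (cov_of_fppf π)) ?_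
    have e1 : (𝟙 L ⊗ₘ π) ≫ a.act = (fst L L * snd L L) ≫ π := by
      rw [Groth.L08.Borel.mul_orbitMap]
      congr 1
    have e2 : (𝟙 L ⊗ₘ π) ≫ (q ⊗ₘ f) = lift (fst L L ≫ q) ((snd L L ≫ q) ≫ π') := by
      ext <;> simp [π, π', hf]
    rw [reassoc_of% e1, reassoc_of% e2, hf, ← Category.assoc, MonObj.mul_comp, Groth.L08.Borel.mul_orbitMap]
    simp only [Category.assoc]
    rfl
  haveI : Surjective (q ≫ π').left := inferInstanceAs (Surjective (q.left ≫ π'.left))
  haveI : Flat (q ≫ π').left := inferInstanceAs (Flat (q.left ≫ π'.left))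
  haveI : QuasiCompact (q ≫ π').left := by
    haveI : QuasiCompact ((q ≫ π').left ≫ X'.hom) := by rw [Over.w]; infer_instance
    exact QuasiCompact.of_comp (q ≫ π').left X'.hom
  -- the fibre
  let F := pullback f o'
  let jF : F ⟶ X := pullback.fst f o'
  have hF : IsPullback jF (toUnit F) f o' := by
    rw [toUnit_unique (toUnit F) (pullback.snd f o')]
    exact IsPullback.of_hasPullback f o'
  haveI : Mono jF := ⟨fun a b e => hF.hom_ext e (toUnit_unique _ _)⟩
  let w : UL ⟶ F := hF.lift (uL ≫ π) (toUnit UL) (by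
    rw [Category.assoc, hf, ← Category.assoc, huq, hone'])
  have hw_fst : w ≫ jF = uL ≫ π := IsPullback.lift_fst _ _ _ _
  -- the isotropy group
  let N := pullback uL i
  let v : N ⟶ UL := pullback.fst uL i
  haveI : IsClosedImmersion v.left :=
    MorphismProperty.of_isPullback (P := @IsClosedImmersion)
      ((IsPullback.of_hasPullback uL i).map (Over.forget _)).flip ‹_›
  haveI : Mono v := Over.mono_of_mono_left v
  have hv : ∀ {T : Over SK} (x : T ⟶ UL), (∃ z : T ⟶ N, z ≫ v = x) ↔ ∃ h : T ⟶ H, h ≫ i = x ≫ uL := by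
    intro T x
    refine ⟨?_, fun ⟨h, hh⟩ => ⟨pullback.lift x h hh.symm, pullback.lift_fst _ _ _⟩⟩
    rintro ⟨z, rfl⟩
    exact ⟨z ≫ pullback.snd _ _, by rw [Category.assoc, Category.assoc, ← pullback.condition]⟩
  obtain ⟨gN, hN⟩ := Groth.L08.exists_grpObj_of_mono v
    ((hv _).2 ⟨η, by rw [IsMonHom.one_hom (f := uL), IsMonHom.one_hom (f := i)]⟩)
    ((hv _).2 ⟨(fst N N ≫ pullback.snd _ _) * (snd N N ≫ pullback.snd _ _), by
      rw [MonObj.mul_comp, MonObj.mul_comp, Category.assoc, Category.assoc, Category.assoc, Category.assoc,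
        ← pullback.condition]⟩)
    ((hv _).2 ⟨(pullback.snd uL i)⁻¹, by rw [GrpObj.inv_comp, GrpObj.inv_comp, ← pullback.condition]⟩)
  haveI := hN
  have hrel : ∀ (T : Over SK) (x y : T ⟶ UL), x ≫ w = y ≫ w ↔ ∃ z : T ⟶ N, z ≫ v = x⁻¹ * y := by
    intro T x y
    rw [← cancel_mono jF, Category.assoc, Category.assoc, hw_fst, ← Category.assoc, ← Category.assoc,
      Groth.L08.Borel.orbitMap_eq_iff hX, hv, MonObj.mul_comp, GrpObj.inv_comp]
  -- the orbit covers the fibre
  have hcov : Cov w := by
    let F₁ := pullback π jF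
    let c₁ : F₁ ⟶ F := pullback.snd π jF
    let l : F₁ ⟶ L := pullback.fst π jF
    have sq₁ := (IsPullback.of_hasPullback π jF).map (Over.forget _)
    haveI : Surjective c₁.left := MorphismProperty.of_isPullback (P := @Surjective) sq₁ ‹_›
    haveI : Flat c₁.left := MorphismProperty.of_isPullback (P := @Flat) sq₁ ‹_›
    haveI : LocallyOfFinitePresentation c₁.left :=
      MorphismProperty.of_isPullback (P := @LocallyOfFinitePresentation) sq₁ ‹_›
    have hl : l ≫ π = c₁ ≫ jF := pullback.condition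
    obtain ⟨h', hh'⟩ : ∃ h' : F₁ ⟶ H', h' ≫ n = l ≫ q := by
      have e : (1 : F₁ ⟶ L') ≫ π' = (l ≫ q) ≫ π' := by
        rw [Category.assoc, ← hf, ← Category.assoc, hl, Category.assoc, hF.w, ← Category.assoc, hone',
          toUnit_unique (c₁ ≫ toUnit F) (toUnit F₁)]
      obtain ⟨z, hz⟩ := (Groth.L08.Borel.orbitMap_eq_iff hX' _ _).1 e
      exact ⟨z, by rw [hz, inv_one, _root_.one_mul]⟩
    let F₂ := pullback p h'
    let c₂ : F₂ ⟶ F₁ := pullback.snd p h'
    let h : F₂ ⟶ H := pullback.fst p h'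
    have sq₂ := (IsPullback.of_hasPullback p h').map (Over.forget _)
    haveI : Surjective c₂.left := MorphismProperty.of_isPullback (P := @Surjective) sq₂ ‹_›
    haveI : Flat c₂.left := MorphismProperty.of_isPullback (P := @Flat) sq₂ ‹_›
    haveI : LocallyOfFinitePresentation c₂.left :=
      MorphismProperty.of_isPullback (P := @LocallyOfFinitePresentation) sq₂ ‹_›
    have hh : (h ≫ i) ≫ q = (c₂ ≫ l) ≫ q := by
      rw [Category.assoc, ← hpn, ← Category.assoc, pullback.condition, Category.assoc, hh', Category.assoc]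
    obtain ⟨x, hx, -⟩ := hker.exists_lift ((c₂ ≫ l) * (h ≫ i)⁻¹) (toUnit F₂) (by
      rw [MonObj.mul_comp, GrpObj.inv_comp, hh, mul_inv_cancel, Hom.one_def])
    have hxw : x ≫ w = c₂ ≫ c₁ := by
      rw [← cancel_mono jF, Category.assoc, hw_fst, ← Category.assoc, hx, Category.assoc, ← hl, ← Category.assoc,
        Groth.L08.Borel.orbitMap_eq_iff hX]
      exact ⟨h, by group⟩
    refine cov_of_comp (q := x) ?_
    rw [hxw]
    exact cov_comp (cov_of_fppf c₂) (cov_of_fppf c₁)
  haveI : IsAffine F.left := isAffine_of_unipotent huns v w hcov hrel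
  exact isAffine_of_fibre q a a' f heq o' jF hF

end Groth.L16.LeviAffine
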