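import Groth.Agent.L08.WeilInsep.HomogQuot
import Groth.Agent.L08.HomSpace.Quot
import Groth.Agent.L25.Observable.UnipFixed
import Groth.Agent.L14.Luna.Cor

/-!
# Homogeneous spaces of unipotent groups are affine
-/

set_option autoImplicit false
set_option backward.isDefEq.respectTransparency.types false
set_option linter.style.haveILetI false
set_option maxHeartbeats 1000000
universe u

open CategoryTheory CategoryTheory.Limits MonoidalCategory CartesianMonoidalCategory MonObj AlgebraicGeometry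
open Groth.L08.HomSpace (specOf)
open Groth.L08.WeilInsep
open Groth.L28.Ext (Cov)
open WithConv

noncomputable section

namespace Groth.L16.LeviAffine

variable {k : Type u} [Field k] [IsAlgClosed k]

/-- A homogeneous space of a smooth connected unipotent group is affine. -/
theorem isAffine_of_unipotent {K L Q : Over (Spec (CommRingCat.of k))} [GrpObj K] [GrpObj L] [IsAffine K.left]
    [Smooth K.hom] [ConnectedSpace K.left] (hns : Red.HasNoSubtorus k K) (i : L ⟶ K) [IsMonHom i]
    [IsClosedImmersion i.left] (w : K ⟶ Q) (hw : Cov w)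
    (hrel : ∀ (T : Over (Spec (CommRingCat.of k))) (x y : T ⟶ K), x ≫ w = y ≫ w ↔ ∃ z : T ⟶ L, z ≫ i = x⁻¹ * y) :
    IsAffine Q.left := by
  classical
  obtain ⟨A, _, _, ψ₀, _, _, hψ₀, hiso₀⟩ := Groth.L25.Observable.exists_chart K
  haveI := hiso₀; haveI := hψ₀
  obtain ⟨n, hn⟩ := Groth.L14.Luna.isSolvableGrp_of_noSubtorus K hns
  haveI : Group.IsSolvable (VecGrp.pt k k ⟶ K) := ⟨⟨n, hn _⟩⟩
  have hunip := Groth.L25.Observable.isUnipotent_of_solvable_noSubtorus ψ₀ hns
  let ψ : K ⟶ specOf k A := ψ₀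
  haveI : IsMonHom ψ := hψ₀
  haveI : IsIso ψ := hiso₀
  let φ : specOf k A ⟶ K := CategoryTheory.inv ψ
  have h1 : φ ≫ ψ = 𝟙 _ := IsIso.inv_hom_id ψ
  have h2 : ψ ≫ φ = 𝟙 K := IsIso.hom_inv_id ψ
  haveI : IsMonHom (asIso ψ).hom := inferInstanceAs (IsMonHom ψ)
  haveI : IsMonHom φ := inferInstanceAs (IsMonHom (asIso ψ).inv)
  haveI : IsIso φ.left := inferInstanceAs (IsIso ((Over.forget _).map φ))
  haveI : IsIso ψ.left := inferInstanceAs (IsIso ((Over.forget _).map ψ))
  haveI : IsClosedImmersion (i ≫ ψ).left := inferInstanceAs (IsClosedImmersion (i.left ≫ ψ.left))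
  obtain ⟨I, hI, hpts⟩ := Groth.L08.HomSpace.exists_hopfIdeal (i ≫ ψ)
  haveI := hI
  obtain ⟨C, hCfg, hCff, hC⟩ := exists_quotientRing (hunip) I
  haveI := hCff
  haveI : Algebra.FiniteType k C := C.fg_iff_finiteType.1 hCfg
  haveI : IsNoetherianRing C := Algebra.FiniteType.isNoetherianRing k C
  let pC : specOf k A ⟶ specOf k C := (Spec.map (CommRingCat.ofHom C.val.toRingHom)).asOver _
  have hval : C.val.toRingHom.FaithfullyFlat := RingHom.faithfullyFlat_algebraMap_iff.2 hCff
  haveI : Surjective pC.left := ⟨(RingHom.FaithfullyFlat.iff_flat_and_comap_surjective.1 hval).2⟩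
  haveI : Flat pC.left := (HasRingHomProperty.Spec_iff (P := @Flat)).2 hval.flat
  haveI : LocallyOfFinitePresentation pC.left := by
    refine (HasRingHomProperty.Spec_iff (P := @LocallyOfFinitePresentation)).2 ?_
    haveI : Algebra.FiniteType C A := Algebra.FiniteType.of_restrictScalars_finiteType k C A
    exact RingHom.finitePresentation_algebraMap.2 (Algebra.FinitePresentation.of_finiteType.1 inferInstance)
  -- the two kernel pairs agree
  have hfib : ∀ (T : Over (Spec (CommRingCat.of k))) (x y : T ⟶ K),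
      x ≫ w = y ≫ w ↔ x ≫ ψ ≫ pC = y ≫ ψ ≫ pC := by
    have haff : ∀ (S : Type u) [CommRing S] [Algebra k S] (g h : WithConv (A →ₐ[k] S)),
        (Spec.mapMulEquiv g ≫ φ) ≫ w = (Spec.mapMulEquiv h ≫ φ) ≫ w ↔
          Spec.mapMulEquiv g ≫ pC = Spec.mapMulEquiv h ≫ pC := by
      intro S _ _ g h
      have hgi : Spec.mapMulEquiv (Groth.L08.pinv g) = (Spec.mapMulEquiv g)⁻¹ :=
        (inv_eq_of_mul_eq_one_left (((map_mul _ _ _).symm.trans (congrArg _ (Groth.L08.pinv_mul g))).trans (map_one _))).symm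
      rw [show ((Spec.mapMulEquiv g ≫ φ) ≫ w = (Spec.mapMulEquiv h ≫ φ) ≫ w) ↔
          ∃ z, z ≫ i = (Spec.mapMulEquiv g ≫ φ)⁻¹ * (Spec.mapMulEquiv h ≫ φ) from ?_]
      · constructor
        · rintro ⟨z, hz⟩
          have e : z ≫ i ≫ ψ = Spec.mapMulEquiv (Groth.L08.pinv g * h) := by
            rw [← Category.assoc, hz, map_mul, hgi, MonObj.mul_comp, GrpObj.inv_comp, Category.assoc, Category.assoc,
              h1, Category.comp_id, Category.comp_id]
          have e2 := (hC S g h).2 ((hpts S _).1 ⟨z, e⟩)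
          ext1
          show Spec.map (CommRingCat.ofHom g.ofConv.toRingHom) ≫ Spec.map _ = Spec.map _ ≫ Spec.map _
          rw [← Spec.map_comp, ← Spec.map_comp]
          congr 1
          ext c
          exact e2 c.1 c.2
        · intro e
          have e1 : Spec.map (CommRingCat.ofHom C.val.toRingHom ≫ CommRingCat.ofHom g.ofConv.toRingHom) =
              Spec.map (CommRingCat.ofHom C.val.toRingHom ≫ CommRingCat.ofHom h.ofConv.toRingHom) := by
            rw [Spec.map_comp, Spec.map_comp]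
            exact congrArg CommaMorphism.left e
          have e2 : ∀ c ∈ C, g.ofConv c = h.ofConv c := fun c hc =>
            congrArg (fun z => z.hom ⟨c, hc⟩) (Spec.map_injective e1)
          obtain ⟨z, hz⟩ := (hpts S _).2 ((hC S g h).1 e2)
          refine ⟨z, ?_⟩
          rw [← cancel_mono ψ, Category.assoc, hz, map_mul, hgi, MonObj.mul_comp, GrpObj.inv_comp, Category.assoc,
            Category.assoc, h1, Category.comp_id, Category.comp_id]
      · rw [hrel]
    intro T x y
    have key : ∀ (S : Type u) [CommRing S] [Algebra k S] (t : specOf k S ⟶ T),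
        t ≫ x ≫ w = t ≫ y ≫ w ↔ t ≫ x ≫ ψ ≫ pC = t ≫ y ≫ ψ ≫ pC := by
      intro S _ _ t
      obtain ⟨g, hg⟩ := (Spec.mapMulEquiv (R := k) (S := A) (T := S)).surjective (t ≫ x ≫ ψ)
      obtain ⟨h, hh⟩ := (Spec.mapMulEquiv (R := k) (S := A) (T := S)).surjective (t ≫ y ≫ ψ)
      have ex : t ≫ x = Spec.mapMulEquiv g ≫ φ := by rw [hg]; simp only [Category.assoc, h2, Category.comp_id]
      have ey : t ≫ y = Spec.mapMulEquiv h ≫ φ := by rw [hh]; simp only [Category.assoc, h2, Category.comp_id]
      rw [← Category.assoc t x w, ← Category.assoc t y w, ex, ey, haff S g h, hg, hh]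
      simp only [Category.assoc]
    exact ⟨fun e => Groth.L08.HomSpace.hom_ext_affine _ _ fun S _ _ t => (key S t).1 (by rw [e]),
      fun e => Groth.L08.HomSpace.hom_ext_affine _ _ fun S _ _ t => (key S t).2 (by rw [e])⟩
  haveI : Surjective (ψ ≫ pC).left := inferInstanceAs (Surjective (ψ.left ≫ pC.left))
  haveI : Flat (ψ ≫ pC).left := inferInstanceAs (Flat (ψ.left ≫ pC.left))
  haveI : LocallyOfFinitePresentation (ψ ≫ pC).left :=
    inferInstanceAs (LocallyOfFinitePresentation (ψ.left ≫ pC.left))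
  obtain ⟨e⟩ := exists_iso_of_cov hw (cov_of_fppf (ψ ≫ pC)) hfib
  haveI : IsIso e.hom.left := inferInstanceAs (IsIso ((Over.forget _).map e.hom))
  haveI : IsAffine (specOf k C).left := inferInstanceAs (IsAffine (Spec (CommRingCat.of C)))
  exact IsAffine.of_isIso e.hom.left

end Groth.L16.LeviAffine
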